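import Mathlib

/-!
# No group of order 336 of degree seven has all outer involution centralizers of order divisible by 16
-/

set_option autoImplicit false

open MulAction

namespace CfsgLib.TwoS4

theorem no_degree_seven {G : Type*} [Group G] [Finite G] (C : Subgroup G) (hC : C.index = 7)
    (hcore : C.normalCore = ⊥) (hG : Nat.card G = 336) (H : Subgroup G) [H.Normal]
    (hH : H.index = 2)
    (hcl : ∀ v : G, orderOf v = 2 → v ∉ H → 16 ∣ Nat.card (Subgroup.centralizer ({v} : Set G))) :
    False := by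
  classical
  haveI : Fact (Nat.Prime 7) := ⟨by norm_num⟩
  haveI : Fact (Nat.Prime 3) := ⟨Nat.prime_three⟩
  haveI : Fact (Nat.Prime 2) := ⟨Nat.prime_two⟩
  obtain ⟨Q⟩ : Nonempty (Sylow 7 G) := inferInstance
  have hQcard : Nat.card (Q : Subgroup G) = 7 := by
    rw [Q.card_eq_multiplicity, hG, show (336 : ℕ) = 7 ^ 1 * 48 by norm_num,
      Nat.factorization_mul (by norm_num) (by norm_num), Nat.factorization_pow]
    simp [Nat.Prime.factorization_self (show Nat.Prime 7 by norm_num),
      Nat.factorization_eq_zero_of_not_dvd (show ¬ 7 ∣ 48 by norm_num)]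
  haveI : IsCyclic (Q : Subgroup G) := isCyclic_of_prime_card hQcard
  have hfaith : ∀ g : G, (∀ a : G ⧸ C, g • a = a) → g = 1 := by
    intro g hg
    have : g ∈ (toPermHom G (G ⧸ C)).ker := MonoidHom.mem_ker.mpr (Equiv.ext hg)
    rwa [← Subgroup.normalCore_eq_ker, hcore, Subgroup.mem_bot] at this
  have hcardX : Nat.card (G ⧸ C) = 7 := hC
  -- the Sylow subgroup is self-centralizing
  have hself : ∀ y : G, (∀ q ∈ (Q : Subgroup G), q * y = y * q) → y ∈ (Q : Subgroup G) := by
    intro y hy
    obtain ⟨a, q0, hq0a⟩ : ∃ (a : G ⧸ C) (q0 : (Q : Subgroup G)), q0 • a ≠ a := by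
      by_contra h
      push Not at h
      have hbot : (Q : Subgroup G) = ⊥ := by
        rw [Subgroup.eq_bot_iff_forall]
        exact fun q hq => hfaith q fun a => h a ⟨q, hq⟩
      rw [hbot, Subgroup.card_bot] at hQcard
      omega
    have horb : ∀ b : G ⧸ C, b ∈ orbit (Q : Subgroup G) a := by
      obtain ⟨k, hk⟩ := Q.isPGroup'.card_orbit a
      have hne : Nat.card (orbit (Q : Subgroup G) a) ≠ 1 := by
        intro h1
        obtain ⟨hs, -⟩ := Nat.card_eq_one_iff_unique.mp h1
        exact hq0a (congrArg Subtype.val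
          (Subsingleton.elim (⟨q0 • a, mem_orbit a q0⟩ : orbit (Q : Subgroup G) a)
            ⟨a, mem_orbit_self a⟩))
      have hle : Nat.card (orbit (Q : Subgroup G) a) ≤ 7 :=
        (Nat.card_le_card_of_injective _ Subtype.val_injective).trans hcardX.le
      have hk1 : k ≠ 0 := by rintro rfl; exact hne hk
      have h7 : 7 ≤ Nat.card (orbit (Q : Subgroup G) a) := by
        rw [hk]; exact le_trans (by norm_num) (Nat.pow_le_pow_right (by norm_num) (Nat.one_le_iff_ne_zero.mpr hk1))
      intro b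
      have hbij : Function.Bijective (Subtype.val : orbit (Q : Subgroup G) a → G ⧸ C) :=
        (Nat.bijective_iff_injective_and_card _).mpr
          ⟨Subtype.val_injective, (le_antisymm hle h7).trans hcardX.symm⟩
      obtain ⟨⟨c, hc⟩, rfl⟩ := hbij.2 b
      exact hc
    obtain ⟨⟨q, hq⟩, hqa⟩ := horb (y • a)
    have hqa' : q • a = y • a := hqa
    have h1 : q⁻¹ * y = 1 := by
      refine hfaith _ fun b => ?_
      obtain ⟨⟨r, hr⟩, rfl⟩ := horb b
      show (q⁻¹ * y) • r • a = r • a
      have hc : q⁻¹ * y * r = r * (q⁻¹ * y) := by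
        have h2 := hy r hr
        have h3 : q⁻¹ * r = r * q⁻¹ := by
          letI := IsCyclic.commGroup (α := (Q : Subgroup G))
          exact congrArg Subtype.val
            (mul_comm (⟨q⁻¹, inv_mem hq⟩ : (Q : Subgroup G)) ⟨r, hr⟩)
        rw [mul_assoc, ← h2, ← mul_assoc, h3, mul_assoc]
      rw [smul_smul, hc, mul_smul, mul_smul q⁻¹ y, ← hqa', inv_smul_smul]
    rw [inv_mul_eq_one.mp h1] at hq
    exact hq
  set N : Subgroup G := Subgroup.normalizer ((Q : Subgroup G) : Set G) with hN
  have hQN : (Q : Subgroup G) ≤ N := Subgroup.le_normalizer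
  let ρ : N →* MulAut (Q : Subgroup G) := (Q : Subgroup G).normalizerMonoidHom
  have hker : ∀ n : N, ρ n = 1 → (n : G) ∈ (Q : Subgroup G) := by
    intro n hn
    refine hself n fun q hq => ?_
    have h1 := congrArg (fun f : MulAut (Q : Subgroup G) => ((f ⟨q, hq⟩ : (Q : Subgroup G)) : G)) hn
    have h2 : (n : G) * q * (n : G)⁻¹ = q := h1
    calc q * (n : G) = (n : G) * q * (n : G)⁻¹ * n := by rw [h2]
      _ = n * q := by group
  have hAut : Nat.card (MulAut (Q : Subgroup G)) = 6 := by
    rw [IsCyclic.card_mulAut, hQcard, Nat.totient_prime (by norm_num)]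
  have hNle : Nat.card N ≤ 42 := by
    have h1 := ρ.ker.card_mul_index
    rw [Subgroup.index_ker] at h1
    have h2 : Nat.card ρ.range ≤ 6 := hAut ▸ Subgroup.card_le_card_group _
    have h3 : Nat.card ρ.ker ≤ 7 := by
      exact (Nat.card_le_card_of_injective
        (fun n : ρ.ker => (⟨(n : N), hker n n.2⟩ : (Q : Subgroup G)))
        (fun a b h => Subtype.ext (Subtype.ext (Subtype.mk.inj h)))).trans hQcard.le
    calc Nat.card N = Nat.card ρ.ker * Nat.card ρ.range := h1.symm
      _ ≤ 7 * 6 := Nat.mul_le_mul h3 h2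
  have hindexQ : (Q : Subgroup G).index = 48 := by
    have h := (Q : Subgroup G).card_mul_index
    rw [hQcard, hG] at h
    omega
  have hn7 : N.index = 8 := by
    have h1 : Nat.card (Sylow 7 G) ∣ 48 := hindexQ ▸ Q.card_dvd_index
    have h2 := card_sylow_modEq_one 7 G
    have h3 : Nat.card (Sylow 7 G) = N.index := Q.card_eq_index_normalizer
    have h4 := N.card_mul_index
    rw [hG] at h4
    have h5 : 8 ≤ N.index := by nlinarith
    rw [h3] at h1 h2
    have h6 := Nat.le_of_dvd (by norm_num) h1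
    unfold Nat.ModEq at h2
    interval_cases N.index <;> omega
  have hNcard : Nat.card N = 42 := by
    have h4 := N.card_mul_index
    rw [hG, hn7] at h4
    omega
  -- an involution of `N` outside `H`
  have hQH : (Q : Subgroup G) ≤ H := by
    intro q hq
    have h1 : orderOf q ∣ 7 := hQcard ▸ Subgroup.orderOf_dvd_natCard _ hq
    have h2 : q ^ 7 = 1 := orderOf_dvd_iff_pow_eq_one.mp h1
    have h4 : q ^ 6 ∈ H := by
      rw [show (6 : ℕ) = 2 * 3 by norm_num, pow_mul]
      exact H.pow_mem (Subgroup.sq_mem_of_index_two hH q) 3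
    have h5 : q ^ 6 * q = 1 := by rw [← pow_succ, h2]
    rw [eq_inv_of_mul_eq_one_right h5]
    exact H.inv_mem h4
  have hHN : H.relIndex N = 2 := by
    have htop : N ⊔ H = ⊤ := Q.normalizer_sup_eq_top' hQH
    rw [← Subgroup.relIndex_sup_right (H := N) (K := H), htop, Subgroup.relIndex_top_right, hH]
  obtain ⟨v, hv⟩ := exists_prime_orderOf_dvd_card' (G := N) 2 (by rw [hNcard]; norm_num)
  rw [← Subgroup.orderOf_coe] at hv
  have hvH : (v : G) ∉ H := by
    intro h
    have h1 := (H.subgroupOf N).card_mul_index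
    rw [show (H.subgroupOf N).index = 2 from hHN, hNcard] at h1
    have h2 : orderOf v ∣ Nat.card (H.subgroupOf N) := Subgroup.orderOf_dvd_natCard _ h
    rw [← Subgroup.orderOf_coe, hv, show Nat.card (H.subgroupOf N) = 21 by omega] at h2
    omega
  -- `v` commutes with an element of order three
  have hP3 : ∃ P : Sylow 3 N, v ∈ Subgroup.normalizer ((P : Subgroup N) : Set N) := by
    obtain ⟨P0⟩ : Nonempty (Sylow 3 N) := inferInstance
    have hP0 : Nat.card (P0 : Subgroup N) = 3 := by
      rw [P0.card_eq_multiplicity, hNcard, show (42 : ℕ) = 3 ^ 1 * 14 by norm_num,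
        Nat.factorization_mul (by norm_num) (by norm_num), Nat.factorization_pow]
      simp [Nat.Prime.factorization_self Nat.prime_three,
        Nat.factorization_eq_zero_of_not_dvd (show ¬ 3 ∣ 14 by norm_num)]
    have hidx : (P0 : Subgroup N).index = 14 := by
      have h := (P0 : Subgroup N).card_mul_index
      rw [hP0, hNcard] at h
      omega
    have hodd : ¬ 2 ∣ Nat.card (Sylow 3 N) := by
      intro h2
      have h1 : Nat.card (Sylow 3 N) ∣ 14 := hidx ▸ P0.card_dvd_index
      have h3 := card_sylow_modEq_one 3 N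
      have h4 := Nat.le_of_dvd (by norm_num) h1
      unfold Nat.ModEq at h3
      interval_cases Nat.card (Sylow 3 N) <;> omega
    have hpg : IsPGroup 2 (Subgroup.zpowers v) := by
      refine IsPGroup.of_card (n := 1) ?_
      rw [Nat.card_zpowers, ← Subgroup.orderOf_coe, hv, pow_one]
    have hfp := hpg.card_modEq_card_fixedPoints (Sylow 3 N)
    have hne : Nonempty (fixedPoints (Subgroup.zpowers v) (Sylow 3 N)) := by
      by_contra h
      rw [not_nonempty_iff] at h
      rw [Nat.card_of_isEmpty (α := fixedPoints (Subgroup.zpowers v) (Sylow 3 N))] at hfp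
      exact hodd (Nat.modEq_zero_iff_dvd.mp hfp)
    obtain ⟨⟨P, hP⟩⟩ := hne
    exact ⟨P, Sylow.smul_eq_iff_mem_normalizer.mp (hP ⟨v, Subgroup.mem_zpowers v⟩)⟩
  obtain ⟨P, hP⟩ := hP3
  have hPcard : Nat.card (P : Subgroup N) = 3 := by
    rw [P.card_eq_multiplicity, hNcard, show (42 : ℕ) = 3 ^ 1 * 14 by norm_num,
      Nat.factorization_mul (by norm_num) (by norm_num), Nat.factorization_pow]
    simp [Nat.Prime.factorization_self Nat.prime_three,
      Nat.factorization_eq_zero_of_not_dvd (show ¬ 3 ∣ 14 by norm_num)]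
  obtain ⟨x, hx⟩ := exists_prime_orderOf_dvd_card' (G := (P : Subgroup N)) 3 (by rw [hPcard])
  rw [← Subgroup.orderOf_coe] at hx
  have hcomm : v * (x : N) = (x : N) * v := by
    set c : N := v * (x : N) * v⁻¹ * (x : N)⁻¹ with hc
    have hcP : c ∈ (P : Subgroup N) :=
      mul_mem ((Subgroup.mem_normalizer_iff.mp hP _).mp x.2) (inv_mem x.2)
    have hcQ : (c : G) ∈ (Q : Subgroup G) := by
      refine hker c ?_
      set ι := IsCyclic.mulAutMulEquiv (G := ↥(Q : Subgroup G)) with hι
      refine ι.injective ?_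
      rw [map_one, hc, map_mul ρ, map_mul ρ, map_mul ρ, map_inv ρ, map_inv ρ, map_mul, map_mul,
        map_mul, map_inv, map_inv, mul_comm (ι (ρ v)) (ι (ρ (x : N))), mul_inv_cancel_right,
        mul_inv_cancel]
    have h1 : orderOf (c : G) ∣ 7 := hQcard ▸ Subgroup.orderOf_dvd_natCard _ hcQ
    have h2 : orderOf c ∣ 3 := hPcard ▸ Subgroup.orderOf_dvd_natCard _ hcP
    rw [Subgroup.orderOf_coe] at h1
    have h3 : orderOf c ∣ 1 := (show Nat.gcd 7 3 = 1 by norm_num) ▸ Nat.dvd_gcd h1 h2
    have hc1 : c = 1 := orderOf_eq_one_iff.mp (Nat.dvd_one.mp h3)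
    exact mul_inv_eq_iff_eq_mul.mp (mul_inv_eq_one.mp (hc ▸ hc1))
  set Cv := Subgroup.centralizer ({(v : G)} : Set G) with hCv
  have h48 : 48 ∣ Nat.card Cv := by
    have h16 := hcl v hv hvH
    have hxC : ((x : N) : G) ∈ Cv := Subgroup.mem_centralizer_singleton_iff.mpr
      (congrArg Subtype.val hcomm).symm
    have h3 := Subgroup.orderOf_dvd_natCard _ hxC
    rw [Subgroup.orderOf_coe, hx] at h3
    exact Nat.Coprime.mul_dvd_of_dvd_of_dvd (by norm_num : Nat.Coprime 16 3) h16 h3
  -- the class of `v` has at most seven members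
  let F : G ⧸ Cv → G := Quotient.lift (fun g : G => g * (v : G) * g⁻¹) (by
    intro a b hab
    have h1 := Subgroup.mem_centralizer_singleton_iff.mp (QuotientGroup.leftRel_apply.mp hab)
    calc a * (v : G) * a⁻¹ = a * ((v : G) * (a⁻¹ * b)) * b⁻¹ := by group
      _ = a * (a⁻¹ * b * (v : G)) * b⁻¹ := by rw [h1]
      _ = b * (v : G) * b⁻¹ := by group)
  have hFcard : Nat.card (Set.range F) ≤ 7 := by
    refine (Finite.card_range_le F).trans ?_
    have h1 := Cv.card_mul_index
    rw [hG] at h1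
    have h2 : 48 ≤ Nat.card Cv := Nat.le_of_dvd Nat.card_pos h48
    show Cv.index ≤ 7
    by_contra h
    have : 48 * 8 ≤ Nat.card Cv * Cv.index := Nat.mul_le_mul h2 (by omega)
    omega
  have hvQ : ∀ q ∈ (Q : Subgroup G), q * (v : G) = v * q → q = 1 := by
    intro q hq hqv
    by_contra hq1
    have hgen : Subgroup.zpowers q = (Q : Subgroup G) := by
      refine Subgroup.eq_of_le_of_card_ge (Subgroup.zpowers_le.mpr hq) ?_
      rw [hQcard, Nat.card_zpowers]
      have h := Subgroup.orderOf_dvd_natCard _ hq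
      rw [hQcard] at h
      rcases (Nat.dvd_prime (by norm_num)).mp h with h' | h'
      · exact absurd (orderOf_eq_one_iff.mp h') hq1
      · omega
    have hvQ' : (v : G) ∈ (Q : Subgroup G) := hself v fun r hr => by
      rw [← hgen] at hr
      obtain ⟨k, rfl⟩ := hr
      exact (Commute.zpow_left (show Commute q (v : G) from hqv) k).eq
    have := Subgroup.orderOf_dvd_natCard _ hvQ'
    rw [hv, hQcard] at this
    omega
  have hall : ∀ g : G, g * (v : G) * g⁻¹ ∈ N := by
    have hsub : Set.range (fun q : (Q : Subgroup G) => (q : G) * (v : G) * (q : G)⁻¹) ⊆ Set.range F := by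
      rintro _ ⟨q, rfl⟩
      exact ⟨QuotientGroup.mk (q : G), rfl⟩
    have hinj : Function.Injective (fun q : (Q : Subgroup G) => (q : G) * (v : G) * (q : G)⁻¹) := by
      intro a b h
      refine Subtype.ext (inv_mul_eq_one.mp (hvQ _ (mul_mem (inv_mem a.2) b.2) ?_))
      calc (a : G)⁻¹ * b * v = (a : G)⁻¹ * ((b : G) * v * (b : G)⁻¹) * b := by group
        _ = (a : G)⁻¹ * ((a : G) * v * (a : G)⁻¹) * b := by simp only at h; rw [h]
        _ = v * ((a : G)⁻¹ * b) := by group
    have heq : Set.range (fun q : (Q : Subgroup G) => (q : G) * (v : G) * (q : G)⁻¹) = Set.range F := by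
      refine Set.eq_of_subset_of_ncard_le hsub ?_ (Set.toFinite _)
      rw [← Nat.card_coe_set_eq, ← Nat.card_coe_set_eq, Nat.card_range_of_injective hinj, hQcard]
      exact hFcard
    intro g
    have : g * (v : G) * g⁻¹ ∈ Set.range F := ⟨QuotientGroup.mk g, rfl⟩
    rw [← heq] at this
    obtain ⟨q, hq⟩ := this
    rw [← hq]
    exact mul_mem (mul_mem (hQN q.2) v.2) (inv_mem (hQN q.2))
  set K := N.normalCore with hK
  have hvK : (v : G) ∈ K := hall
  -- a commutator puts `Q` inside the core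
  obtain ⟨q, hq⟩ := exists_prime_orderOf_dvd_card' (G := (Q : Subgroup G)) 7 (by rw [hQcard])
  rw [← Subgroup.orderOf_coe] at hq
  have hKn : K.Normal := N.normalCore_normal
  have hcK : (q : G) * v * (q : G)⁻¹ * (v : G)⁻¹ ∈ K := mul_mem (hKn.conj_mem _ hvK _) (inv_mem hvK)
  have hcQ : (q : G) * v * (q : G)⁻¹ * (v : G)⁻¹ ∈ (Q : Subgroup G) := by
    rw [show (q : G) * v * (q : G)⁻¹ * (v : G)⁻¹ = (q : G) * ((v : G) * (q : G)⁻¹ * (v : G)⁻¹) by group]
    exact mul_mem q.2 ((Subgroup.mem_normalizer_iff.mp v.2 _).mp (inv_mem q.2))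
  have hQK : (Q : Subgroup G) ≤ K := by
    have hne : (q : G) * v * (q : G)⁻¹ * (v : G)⁻¹ ≠ 1 := by
      intro h
      have h1 := hvQ q q.2 (mul_inv_eq_iff_eq_mul.mp (mul_inv_eq_one.mp h))
      rw [h1, orderOf_one] at hq
      omega
    intro r hr
    have hgen : Subgroup.zpowers ((q : G) * v * (q : G)⁻¹ * (v : G)⁻¹) = (Q : Subgroup G) := by
      refine Subgroup.eq_of_le_of_card_ge (Subgroup.zpowers_le.mpr hcQ) ?_
      rw [hQcard, Nat.card_zpowers]
      have h := Subgroup.orderOf_dvd_natCard _ hcQ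
      rw [hQcard] at h
      rcases (Nat.dvd_prime (by norm_num)).mp h with h' | h'
      · exact absurd (orderOf_eq_one_iff.mp h') hne
      · omega
    rw [← hgen] at hr
    exact Subgroup.zpowers_le.mpr hcK hr
  have hQn : (Q : Subgroup G).Normal := by
    refine ⟨fun r hr g => ?_⟩
    have hmem : g * r * g⁻¹ ∈ N := N.normalCore_le (hKn.conj_mem r (hQK hr) g)
    refine hker ⟨_, hmem⟩ ?_
    have h7 : (⟨g * r * g⁻¹, hmem⟩ : N) ^ 7 = 1 := by
      refine Subtype.ext ?_
      rw [Subgroup.coe_pow, conj_pow, Subgroup.coe_one,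
        orderOf_dvd_iff_pow_eq_one.mp (hQcard ▸ Subgroup.orderOf_dvd_natCard _ hr), mul_one,
        mul_inv_cancel]
    have h8 : ρ ⟨g * r * g⁻¹, hmem⟩ ^ 7 = 1 := by rw [← map_pow, h7, map_one]
    have h9 : ρ ⟨g * r * g⁻¹, hmem⟩ ^ 6 = 1 := by rw [← hAut, pow_card_eq_one']
    rwa [pow_succ, h9, one_mul] at h8
  have : N = ⊤ := Subgroup.normalizer_eq_top_iff.mpr hQn
  rw [this, Subgroup.index_top] at hn7
  omega

end CfsgLib.TwoS4
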