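import Cfsg.Agent.Lib.TwoS4.IndexTwo
import Cfsg.Agent.Lib.TwoS4.DegreeSeven
import Cfsg.Agent.Lib.FGStruct.AltOddAut
import Cfsg.Agent.Lib.Linear.PSL2Seven

/-!
# Recognition of `Sym(6)`
-/

set_option autoImplicit false

open Equiv Equiv.Perm

namespace CfsgLib.TwoS4

theorem decomp : ∀ m : Mdl, m = (m.1, 1) * (1, m.2) := fun m =>
  Prod.ext (mul_one m.1).symm (one_mul m.2).symm

theorem fst_cases : ∀ a : Multiplicative (ZMod 2), (a, (1 : Perm (Fin 4))) = (1 : Mdl) ∨
    (a, (1 : Perm (Fin 4))) = cM := by decide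

theorem center_kerChi : ∀ m : Mdl, zM * m = m * zM → chiM m = 1 → m ≠ 1 →
    ∃ w : Mdl, chiM w = 1 ∧ m * w ≠ w * m := by decide +kernel

theorem hom_eq_chiM (f : Mdl →* ℤˣ) (h1 : f cM = -1) (h2 : f hM = -1) : f = chiM := by
  have h3 : f.comp (MonoidHom.inr (Multiplicative (ZMod 2)) (Perm (Fin 4))) = Perm.sign := by
    refine Perm.eq_sign_of_surjective_hom fun u => ?_
    rcases Int.units_eq_one_or u with rfl | rfl
    · exact ⟨1, map_one _⟩
    · exact ⟨swap 0 1, h2⟩
  ext m : 1
  rw [decomp m, map_mul, map_mul]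
  congr 1
  · rcases fst_cases m.1 with h | h <;> rw [h]
    · rw [map_one, map_one]
    · rw [h1, chi_values.1]
  · have h4 := DFunLike.congr_fun h3 m.2
    rw [MonoidHom.comp_apply, MonoidHom.inr_apply] at h4
    rw [h4]
    show Perm.sign m.2 = eps 1 * Perm.sign m.2
    rw [map_one, one_mul]

open CfsgLib.FGStruct in
/-- An automorphism of `A₆` fixing an element of order three preserves the three-cycles. -/
theorem threeCycle_map_of_fixed (φ : MulAut (alternatingGroup (Fin 6)))
    (x : alternatingGroup (Fin 6)) (hx : orderOf x = 3) (hfix : φ x = x)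
    (y : alternatingGroup (Fin 6)) (hy : (y : Perm (Fin 6)).IsThreeCycle) :
    ((φ y : alternatingGroup (Fin 6)) : Perm (Fin 6)).IsThreeCycle := by
  have same : ∀ (ψ : MulAut (alternatingGroup (Fin 6))) (a b : alternatingGroup (Fin 6)),
      orderOf a = 3 → (a : Perm (Fin 6)).cycleType = (b : Perm (Fin 6)).cycleType →
      ((ψ a : alternatingGroup (Fin 6)) : Perm (Fin 6)).cycleType =
        ((ψ b : alternatingGroup (Fin 6)) : Perm (Fin 6)).cycleType := by
    intro ψ a b ha h
    rw [← Subgroup.orderOf_coe] at ha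
    have hne : ¬ EvenCentralizer (a : Perm (Fin 6)) := by
      rcases cycleType_of_order_three ha with h3 | h3
      · exact not_evenCentralizer_threeCycle (by simp) h3
      · exact not_evenCentralizer_three_three h3
    obtain ⟨g, rfl⟩ := isConj_iff.1 (isConj_alternating_of_isConj (isConj_iff_cycleType_eq.2 h) hne)
    rw [map_mul, map_mul, map_inv]
    exact isConj_iff_cycleType_eq.1
      (isConj_iff.2 ⟨((ψ g : alternatingGroup (Fin 6)) : Perm (Fin 6)), rfl⟩)
  have hy3 : orderOf y = 3 := by rw [← Subgroup.orderOf_coe]; exact hy.orderOf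
  have hφy : orderOf (φ y) = 3 := by rw [MulEquiv.orderOf_eq]; exact hy3
  have hx3 : orderOf (x : Perm (Fin 6)) = 3 := by rw [Subgroup.orderOf_coe]; exact hx
  have hy' : (y : Perm (Fin 6)).cycleType = {3} := hy
  rcases cycleType_of_order_three hx3 with hxc | hxc
  · show ((φ y : alternatingGroup (Fin 6)) : Perm (Fin 6)).cycleType = {3}
    rw [same φ y x hy3 (hy'.trans hxc.symm), hfix, hxc]
  · have hφy' : orderOf ((φ y : alternatingGroup (Fin 6)) : Perm (Fin 6)) = 3 := by
      rw [Subgroup.orderOf_coe]; exact hφy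
    rcases cycleType_of_order_three hφy' with h | h
    · exact h
    · exfalso
      have h1 := same φ.symm (φ y) x hφy (h.trans hxc.symm)
      have h2 : φ.symm x = x := by
        conv_lhs => rw [← hfix]
        exact φ.symm_apply_apply x
      rw [h2, φ.symm_apply_apply y, hy', hxc] at h1
      exact absurd h1 (by decide)

namespace Emb

variable {G : Type*} [Group G] [Finite G] (D : Emb G) (hh : IsConj D.t (D.i hM))
  (H : Subgroup G) [hN : H.Normal] (h2 : H.index = 2) (htH : D.t ∉ H)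

include hh in
theorem cent_ne_top : Subgroup.centralizer ({D.t} : Set G) ≠ ⊤ := by
  intro htop
  obtain ⟨g, hg⟩ := isConj_iff.mp hh
  have h1 : g * D.t = D.t * g :=
    Subgroup.mem_centralizer_singleton_iff.mp (htop ▸ Subgroup.mem_top g)
  rw [h1, mul_inv_cancel_right] at hg
  exact absurd (D.inj hg) (by decide)

include hh h2 htH in
theorem mem_H (m : Mdl) : D.i m ∈ H ↔ chiM m = 1 := by
  classical
  let f : Mdl →* ℤˣ := MonoidHom.mk' (fun m => if D.i m ∈ H then 1 else -1) fun a b => by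
    by_cases ha : D.i a ∈ H <;> by_cases hb : D.i b ∈ H <;>
      simp [map_mul, Subgroup.mul_mem_iff_of_index_two h2, ha, hb]
  have hf : f = chiM := by
    refine hom_eq_chiM f ?_ ?_
    · exact if_neg htH
    · refine if_neg fun hmem => htH ?_
      obtain ⟨g, hg⟩ := isConj_iff.mp hh
      rw [← hg] at hmem
      have := hN.conj_mem _ hmem g⁻¹
      simpa [mul_assoc] using this
  rw [← hf]
  show D.i m ∈ H ↔ (if D.i m ∈ H then (1 : ℤˣ) else -1) = 1
  by_cases hm : D.i m ∈ H <;> simp [hm]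

include hh h2 htH in
/-- A normal subgroup meeting `H` trivially is trivial. -/
theorem normal_bot (K : Subgroup G) [hK : K.Normal] (hKH : K ⊓ H = ⊥) : K = ⊥ := by
  rw [Subgroup.eq_bot_iff_forall]
  intro k hk
  by_contra hk1
  have hnot : ∀ y ∈ K, y ≠ 1 → y ∉ H := by
    intro y hy hy1 hyH
    have h3 : y ∈ K ⊓ H := ⟨hy, hyH⟩
    rw [hKH, Subgroup.mem_bot] at h3
    exact hy1 h3
  have hprod : ∀ y ∈ K, y ≠ 1 → k * y = 1 := by
    intro y hy hy1
    have h3 : k * y ∈ K ⊓ H := ⟨mul_mem hk hy,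
      (Subgroup.mul_mem_iff_of_index_two h2).mpr
        ⟨fun h => absurd h (hnot k hk hk1), fun h => absurd h (hnot y hy hy1)⟩⟩
    rwa [hKH, Subgroup.mem_bot] at h3
  have hcen : ∀ g : G, g * k = k * g := by
    intro g
    have h3 := hprod _ (hK.conj_mem k hk g) (fun h => hk1 (conj_eq_one_iff.mp h))
    have h4 := hprod k hk hk1
    have h5 : g * k * g⁻¹ = k := mul_left_cancel (h3.trans h4.symm)
    exact mul_inv_eq_iff_eq_mul.mp h5
  obtain ⟨m, hm⟩ := D.mem_centT.mp
    (Subgroup.mem_centralizer_singleton_iff.mpr (hcen D.t).symm)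
  rcases D.card_CC m (Subgroup.mem_center_iff.mpr fun g => by rw [hm]; exact hcen g) with rfl | rfl
  · exact hk1 (by rw [← hm, map_one])
  · refine D.cent_ne_top hh ?_
    rw [Subgroup.eq_top_iff']
    intro g
    rw [Subgroup.mem_centralizer_singleton_iff]
    have := hcen g
    rw [← hm] at this
    exact this

include hh h2 htH in
theorem core_bot : (Subgroup.centralizer ({D.t} : Set G)).normalCore = ⊥ := by
  set C := Subgroup.centralizer ({D.t} : Set G) with hC
  haveI hK : C.normalCore.Normal := C.normalCore_normal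
  refine D.normal_bot hh H h2 htH _ ?_
  rw [Subgroup.eq_bot_iff_forall]
  rintro x ⟨hxK, hxH⟩
  obtain ⟨m, rfl⟩ := D.mem_centT.mp (C.normalCore_le hxK)
  by_contra hne
  have hm1 : m ≠ 1 := fun h => hne (by rw [h, map_one])
  obtain ⟨g, k, hgk⟩ := normal_step m ((D.mem_H hh H h2 htH m).mp hxH) hm1
  have hz : D.z ∈ C.normalCore := by
    rcases hgk with h | h
    · rw [show D.z = D.i k * D.i m * (D.i k)⁻¹ by rw [← map_inv, ← map_mul, ← map_mul, h]; rfl]
      exact hK.conj_mem _ hxK _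
    · rw [show D.z = D.i k * (D.i g * D.i m * (D.i g)⁻¹ * (D.i m)⁻¹) * (D.i k)⁻¹ by
        rw [← map_inv, ← map_inv, ← map_inv, ← map_mul, ← map_mul, ← map_mul, ← map_mul, ← map_mul,
          h]; rfl]
      exact hK.conj_mem _ (mul_mem (hK.conj_mem _ hxK _) (inv_mem hxK)) _
  have hcomm : ∀ g : G, D.z * (g * D.t * g⁻¹) = g * D.t * g⁻¹ * D.z := by
    intro g
    have h1 : g⁻¹ * D.z * g⁻¹⁻¹ * D.t = D.t * (g⁻¹ * D.z * g⁻¹⁻¹) :=
      Subgroup.mem_centralizer_singleton_iff.mp (C.normalCore_le (hK.conj_mem _ hz g⁻¹))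
    rw [inv_inv] at h1
    calc D.z * (g * D.t * g⁻¹) = g * (g⁻¹ * D.z * g * D.t) * g⁻¹ := by group
      _ = g * (D.t * (g⁻¹ * D.z * g)) * g⁻¹ := by rw [h1]
      _ = g * D.t * g⁻¹ * D.z := by group
  obtain ⟨hw, l, hl⟩ := wM_facts
  obtain ⟨g', hg⟩ := isConj_iff.mp (hh.trans (isConj_iff.mpr
    ⟨D.i l, by rw [← map_inv, ← map_mul, ← map_mul, hl]⟩ : IsConj (D.i hM) (D.i wM)))
  have h1 := hcomm g'
  rw [hg, show D.z = D.i zM from rfl, ← map_mul, ← map_mul] at h1
  exact hw (D.inj h1)

include hh h2 htH in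
theorem cent_z_dihedral (hzH : D.z ∈ H) :
    Nonempty (↥(Subgroup.centralizer ({⟨D.z, hzH⟩} : Set H)) ≃* DihedralGroup 4) := by
  have hmem : ∀ d, dih d = dihFun d := fun _ => rfl
  have hd : ∀ d, zM * dih d = dih d * zM ∧ chiM (dih d) = 1 := fun d =>
    (dihFun_range _).mpr ⟨d, rfl⟩
  let δ : DihedralGroup 4 →* ↥(Subgroup.centralizer ({⟨D.z, hzH⟩} : Set H)) :=
    MonoidHom.mk' (fun d => ⟨⟨D.i (dih d), (D.mem_H hh H h2 htH _).mpr (hd d).2⟩, by
      rw [Subgroup.mem_centralizer_singleton_iff]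
      refine Subtype.ext ?_
      show D.i (dih d) * D.i zM = D.i zM * D.i (dih d)
      rw [← map_mul, ← map_mul, (hd d).1]⟩) (fun a b => by
        refine Subtype.ext (Subtype.ext ?_)
        show D.i (dih (a * b)) = D.i (dih a) * D.i (dih b)
        rw [map_mul, map_mul])
  refine ⟨(MulEquiv.ofBijective δ ⟨fun a b h => ?_, fun y => ?_⟩).symm⟩
  · exact dihFun_inj a b (D.inj (congrArg Subtype.val (congrArg Subtype.val h)))
  · obtain ⟨⟨y, hyH⟩, hy⟩ := y
    have h1 : y * D.z = D.z * y :=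
      congrArg Subtype.val (Subgroup.mem_centralizer_singleton_iff.mp hy)
    have h3 : y ∈ (D.S : Subgroup G) := by
      rw [← D.C_z, Subgroup.mem_centralizer_singleton_iff]; exact h1
    obtain ⟨m, hm, rfl⟩ := D.mem_S.mp h3
    obtain ⟨d, hd'⟩ := (dihFun_range m).mp ⟨hm, (D.mem_H hh H h2 htH m).mp hyH⟩
    refine ⟨d, Subtype.ext (Subtype.ext ?_)⟩
    show D.i (dih d) = D.i m
    rw [hmem, hd']

include hh h2 htH in
theorem card_H_dvd : 24 ∣ Nat.card H := by
  have hle : chiM.ker.map D.i ≤ H := by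
    rintro _ ⟨m, hm, rfl⟩
    exact (D.mem_H hh H h2 htH m).mpr hm
  have h := Subgroup.card_dvd_of_le hle
  rw [Subgroup.card_map_of_injective D.inj] at h
  have h3 : Nat.card chiM.ker = 24 := by
    rw [← card_ker, ← Nat.card_eq_fintype_card]
    exact Nat.card_congr (Equiv.subtypeEquivRight fun m => MonoidHom.mem_ker)
  rwa [h3] at h

theorem orderOf_outer (v : G) (hv : orderOf v = 2)
    (hout : v ∉ H) (hmemH : ∀ m, D.i m ∈ H ↔ chiM m = 1) (hh' : IsConj D.t (D.i hM)) :
    16 ∣ Nat.card (Subgroup.centralizer ({v} : Set G)) := by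
  haveI : Fact (Nat.Prime 2) := ⟨Nat.prime_two⟩
  have hpg : IsPGroup 2 (Subgroup.zpowers v) := IsPGroup.of_card (n := 1) (by
    rw [Nat.card_zpowers, hv, pow_one])
  obtain ⟨P, hP⟩ := hpg.exists_le_sylow
  obtain ⟨g, hg⟩ := MulAction.exists_smul_eq G P D.S
  have hgv : g * v * g⁻¹ ∈ (D.S : Subgroup G) := by
    rw [← hg, Sylow.coe_subgroup_smul]
    exact ⟨v, hP (Subgroup.mem_zpowers v), by simp [MulAut.smul_def, MulAut.conj_apply]⟩
  rw [← card_cent_conj g v]
  obtain ⟨m, -, hm⟩ := D.mem_S.mp hgv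
  rw [← hm]
  have hm1 : m ≠ 1 := by
    rintro rfl
    rw [map_one] at hm
    rw [conj_eq_one_iff.mp hm.symm, orderOf_one] at hv
    omega
  have hmm : m * m = 1 := D.inj (by
    rw [map_mul, map_one, hm, show g * v * g⁻¹ * (g * v * g⁻¹) = g * (v * v) * g⁻¹ by group,
      ← pow_two, show (2 : ℕ) = orderOf v from hv.symm, pow_orderOf_eq_one]
    group)
  have hchi : chiM m ≠ 1 := by
    intro h
    have h3 : g * v * g⁻¹ ∈ H := hm ▸ (hmemH m).mpr h
    have := hN.conj_mem _ h3 g⁻¹
    exact hout (by simpa [mul_assoc] using this)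
  rcases invol_classes m hmm hm1 with rfl | ⟨k, hk⟩
  · show 16 ∣ Nat.card (Subgroup.centralizer ({D.t} : Set G))
    rw [D.card_C]; norm_num
  · have hchi' : chiM (k * m * k⁻¹) ≠ 1 := by
      rw [map_mul, map_mul, map_inv, mul_comm, inv_mul_cancel_left]
      exact hchi
    rw [← card_cent_conj (D.i k) (D.i m), ← map_inv, ← map_mul, ← map_mul]
    rcases hk with hk | hk | hk | hk <;> rw [hk] at hchi' ⊢
    · exact absurd chi_values.2.1 hchi'
    · have h := Subgroup.card_dvd_of_le D.C_u_ge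
      rw [D.card_S] at h
      exact h
    · obtain ⟨c, hc⟩ := isConj_iff.mp hh'
      rw [← hc, card_cent_conj, D.card_C]; norm_num
    · exact absurd chi_values.2.2.2 hchi'

include hh h2 htH in
theorem sym_six_of_alt (e : H ≃* alternatingGroup (Fin 6)) : Nonempty (G ≃* Perm (Fin 6)) := by
  let ψ : G →* MulAut (alternatingGroup (Fin 6)) :=
    (MulAut.congr e).toMonoidHom.comp MulAut.conjNormal
  have hψ : ∀ (g : G) (y : alternatingGroup (Fin 6)),
      ψ g y = e (MulAut.conjNormal g (e.symm y)) := fun g y => rfl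
  have hzH : D.z ∈ H := (D.mem_H hh H h2 htH zM).mpr chi_values.2.1
  have hKH : ψ.ker ⊓ H = ⊥ := by
    rw [Subgroup.eq_bot_iff_forall]
    rintro x ⟨hxk, hxH⟩
    have hc : ∀ y ∈ H, x * y = y * x := by
      intro y hy
      have h := DFunLike.congr_fun (MonoidHom.mem_ker.mp hxk) (e ⟨y, hy⟩)
      rw [hψ, e.symm_apply_apply, MulAut.one_apply] at h
      have h3 := congrArg Subtype.val (e.injective h)
      rw [MulAut.conjNormal_apply] at h3
      exact mul_inv_eq_iff_eq_mul.mp h3
    have h3 : x ∈ (D.S : Subgroup G) := by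
      rw [← D.C_z, Subgroup.mem_centralizer_singleton_iff]; exact hc _ hzH
    obtain ⟨m, hm, rfl⟩ := D.mem_S.mp h3
    by_contra hne
    obtain ⟨w, hw, hmw⟩ := center_kerChi m hm ((D.mem_H hh H h2 htH m).mp hxH)
      (fun h => hne (by rw [h, map_one]))
    have h4 := hc (D.i w) ((D.mem_H hh H h2 htH w).mpr hw)
    rw [← map_mul, ← map_mul] at h4
    exact hmw (D.inj h4)
  have hinj : Function.Injective ψ :=
    (MonoidHom.ker_eq_bot_iff ψ).mp (D.normal_bot hh H h2 htH ψ.ker hKH)
  -- the outer involution fixes an element of order three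
  obtain ⟨hx1, hx2, hx3, hx4⟩ := xM_facts
  have hxH : D.i xM ∈ H := (D.mem_H hh H h2 htH xM).mpr hx1
  set x : alternatingGroup (Fin 6) := e ⟨D.i xM, hxH⟩ with hxdef
  have hxord : orderOf x = 3 := by
    haveI : Fact (Nat.Prime 3) := ⟨Nat.prime_three⟩
    rw [hxdef, MulEquiv.orderOf_eq, ← Subgroup.orderOf_coe]
    show orderOf (D.i xM) = 3
    rw [orderOf_injective D.i D.inj]
    exact orderOf_eq_prime hx3 hx2
  have hxfix : ψ D.t x = x := by
    rw [hψ, hxdef, e.symm_apply_apply]
    refine congrArg e (Subtype.ext ?_)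
    rw [MulAut.conjNormal_apply]
    show D.i cM * D.i xM * (D.i cM)⁻¹ = D.i xM
    rw [← map_mul, hx4, map_mul, mul_inv_cancel_right]
  obtain ⟨σ, hσ⟩ := CfsgLib.FGStruct.exists_conjNormal_eq_of_threeCycle_map (by simp) (ψ D.t)
    (fun y hy => threeCycle_map_of_fixed _ x hxord hxfix y hy)
  let c : Perm (Fin 6) →* MulAut (alternatingGroup (Fin 6)) := MulAut.conjNormal
  have hHle : ∀ y : H, ψ y = c (e y : Perm (Fin 6)) := by
    intro y
    refine MulEquiv.ext fun a => ?_
    rw [hψ]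
    refine Subtype.ext ?_
    have h1 : MulAut.conjNormal (y : G) (e.symm a) = y * e.symm a * y⁻¹ :=
      Subtype.ext (MulAut.conjNormal_apply _ _)
    rw [h1, map_mul, map_mul, map_inv, e.apply_symm_apply]
    exact (MulAut.conjNormal_apply _ _).symm
  have hle : ψ.range ≤ c.range := by
    rintro _ ⟨g, rfl⟩
    by_cases hg : g ∈ H
    · exact ⟨_, (hHle ⟨g, hg⟩).symm⟩
    · have htg : D.t * g ∈ H := (Subgroup.mul_mem_iff_of_index_two h2).mpr
        ⟨fun h => absurd h htH, fun h => absurd h hg⟩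
      refine ⟨σ⁻¹ * (e ⟨D.t * g, htg⟩ : Perm (Fin 6)), ?_⟩
      rw [map_mul, map_inv, show c σ = ψ D.t from hσ, ← hHle]
      show (ψ D.t)⁻¹ * ψ (D.t * g) = ψ g
      rw [map_mul, inv_mul_cancel_left]
  have hcardG : Nat.card G = 720 := by
    have h := H.card_mul_index
    rw [h2, Nat.card_congr e.toEquiv, nat_card_alternatingGroup, Nat.card_fin] at h
    rw [← h]; rfl
  have hψcard : Nat.card ψ.range = 720 := by
    rw [← hcardG]; exact (Nat.card_congr (MonoidHom.ofInjective hinj).toEquiv).symm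
  have hperm : Nat.card (Perm (Fin 6)) = 720 := by rw [Nat.card_perm, Nat.card_fin]; rfl
  have hccard : Nat.card c.range ≤ 720 := hperm ▸ Finite.card_range_le c
  have heq : ψ.range = c.range :=
    Subgroup.eq_of_le_of_card_ge hle (by rw [hψcard]; exact hccard)
  have hcbij : Function.Bijective c.rangeRestrict :=
    (Nat.bijective_iff_surjective_and_card _).mpr
      ⟨c.rangeRestrict_surjective, by rw [hperm, ← heq, hψcard]⟩
  exact ⟨(MonoidHom.ofInjective hinj).trans
    ((MulEquiv.subgroupCongr heq).trans (MulEquiv.ofBijective _ hcbij).symm)⟩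

include hh h2 htH in
theorem sym_six : Nonempty (G ≃* Perm (Fin 6)) := by
  have hzH : D.z ∈ H := (D.mem_H hh H h2 htH zM).mpr chi_values.2.1
  have hzord : orderOf (⟨D.z, hzH⟩ : H) = 2 := by
    rw [← Subgroup.orderOf_coe]
    exact D.orderOf_invol (by decide) (by decide)
  have hcardG : Nat.card G = 2 * Nat.card H := by
    rw [← H.card_mul_index, h2, mul_comm]
  have hne := D.cent_ne_top hh
  set C := Subgroup.centralizer ({D.t} : Set G) with hC
  have hCi : 48 * C.index = Nat.card G := by rw [← C.card_mul_index, D.card_C]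
  have hcore := D.core_bot hh H h2 htH
  rcases Cfsg.Agent.S3035.result (⟨D.z, hzH⟩ : H) hzord (D.cent_z_dihedral hh H h2 htH hzH) with
    h | ⟨⟨e⟩⟩ | ⟨⟨e⟩⟩ | ⟨⟨e⟩⟩ | ⟨⟨e⟩⟩
  · exfalso
    have hodd : Cfsg.oddCore H = ⊥ := by
      haveI : (Cfsg.oddCore H).Characteristic := CfsgLib.Solvable.pPrimeCore_characteristic 2 H
      have hn : ((Cfsg.oddCore H).map H.subtype).Normal :=
        CfsgLib.Solvable.normal_map_subtype_of_characteristic H _
      have hle : (Cfsg.oddCore H).map H.subtype ≤ Cfsg.oddCore G :=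
        CfsgLib.Solvable.le_pPrimeCore hn (by
          rw [Subgroup.card_map_of_injective H.subtype_injective]
          exact CfsgLib.Solvable.pPrimeCore_card_coprime 2 H)
      rw [D.oddCore_bot, le_bot_iff] at hle
      exact (Subgroup.map_eq_bot_iff_of_injective _ H.subtype_injective).mp hle
    rw [hodd, sup_bot_eq] at h
    have h8 : Nat.card H = 8 := by
      obtain ⟨f⟩ := D.cent_z_dihedral hh H h2 htH hzH
      rw [← Subgroup.card_top (G := H), ← h, Nat.card_congr f.toEquiv, DihedralGroup.nat_card]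
    have := D.card_H_dvd hh H h2 htH
    rw [h8] at this
    omega
  · exfalso
    have h24 : Nat.card H = 24 := by
      rw [Nat.card_congr e.toEquiv, Nat.card_perm, Nat.card_fin]; rfl
    refine hne (Subgroup.index_eq_one.mp ?_)
    omega
  · exfalso
    have h120 : Nat.card H = 120 := by
      rw [Nat.card_congr e.toEquiv, Nat.card_perm, Nat.card_fin]; rfl
    have hinj : Function.Injective (MulAction.toPermHom G (G ⧸ C)) := by
      rw [← MonoidHom.ker_eq_bot_iff, ← Subgroup.normalCore_eq_ker]; exact hcore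
    have h5 := Nat.card_le_card_of_injective _ hinj
    rw [Nat.card_perm, show Nat.card (G ⧸ C) = C.index from rfl,
      show C.index = 5 by omega] at h5
    rw [show Nat.factorial 5 = 120 from rfl] at h5
    omega
  · exfalso
    have h168 : Nat.card H = 168 := by
      rw [Nat.card_congr e.toEquiv, CfsgLib.Linear.PSL2Seven.card_SL3Two]
    exact no_degree_seven C (by omega) hcore (by omega) H h2 fun v hv hvH =>
      D.orderOf_outer H v hv hvH (fun m => D.mem_H hh H h2 htH m) hh
  · exact D.sym_six_of_alt hh H h2 htH e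

end Emb

end CfsgLib.TwoS4
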