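import Cfsg.Agent.Lib.TwoS4.Setup
import Cfsg.Agent.S3035

/-!
# The normal subgroup of index two
-/

set_option autoImplicit false

open Equiv

namespace CfsgLib.TwoS4

theorem cent_hM : ∀ m : Mdl, m ∈ Aset ↔ hM * m = m * hM := by
  intro m; simp [Aset]

theorem Aset_cM : cM ∈ Aset := by decide

theorem conj_class_hM : ∀ m : Mdl, m * m = 1 → m ≠ 1 → chiM m = 1 →
    ∃ g : Mdl, g * m * g⁻¹ = zM ∨ g * m * g⁻¹ = cM * hM := by decide +kernel

theorem wM_not : ∀ m : Mdl, m = wM → ¬ (zM * m = m * zM) := by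
  rintro m rfl; exact wM_facts.1

theorem theta_ne : ∀ s ∈ ({cM, hM, cM * hM, hM', cM * hM'} : Finset Mdl),
    s = cM ∨ s = hM ∨ s = cM * hM ∨ s = hM' ∨ s = cM * hM' := by decide

theorem cMhM'_conj : ∃ g : Mdl, g * (cM * hM) * g⁻¹ = cM * hM' :=
  ⟨(1, swap 0 2 * swap 1 3), by decide⟩

namespace Emb

variable {G : Type*} [Group G] [Finite G] (D : Emb G) (hh : IsConj D.t (D.i hM))

include hh in
/-- The two classes of transpositions are not both fused to `t`. -/
theorem not_conj_cMhM : ¬ IsConj D.t (D.i (cM * hM)) := by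
  classical
  intro hc
  set A : Set G := {x | ∃ m, hM * m = m * hM ∧ D.i m = x} with hA
  set N : Subgroup G := Subgroup.normalizer A with hN
  set Θ : Finset Mdl := {cM, hM, cM * hM, hM', cM * hM'} with hΘ
  have hΘconj : ∀ s ∈ Θ, IsConj D.t (D.i s) := by
    intro s hs
    rcases theta_ne s hs with rfl | rfl | rfl | rfl | rfl
    · exact IsConj.refl _
    · exact hh
    · exact hc
    · obtain ⟨g, hg⟩ := hM'_conj
      exact hh.trans (isConj_iff.mpr ⟨D.i g, by rw [← map_inv, ← map_mul, ← map_mul, hg]⟩)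
    · obtain ⟨g, hg⟩ := cMhM'_conj
      exact hc.trans (isConj_iff.mpr ⟨D.i g, by rw [← map_inv, ← map_mul, ← map_mul, hg]⟩)
  -- every member of `Θ` is reached from `t` inside the normalizer of `A`
  have hreach : ∀ s ∈ Θ, ∃ n ∈ N, n * D.t * n⁻¹ = D.i s := by
    intro s hs
    by_cases hscM : s = cM
    · exact ⟨1, N.one_mem, by subst hscM; simp [t]⟩
    have hs4 : s = hM ∨ s = cM * hM ∨ s = hM' ∨ s = cM * hM' := (theta_ne s hs).resolve_left hscM
    obtain ⟨hsA, hscent⟩ := Aset_targets s hs4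
    obtain ⟨g, hg⟩ := isConj_iff.mp (hΘconj s hs)
    -- the preimage of `t` under `g` lies in the centralizer of `t`
    have hts : g⁻¹ * D.t * g ∈ Subgroup.centralizer ({D.t} : Set G) := by
      rw [Subgroup.mem_centralizer_singleton_iff]
      have h1 : D.t * D.i s = D.i s * D.t := by
        show D.i cM * D.i s = D.i s * D.i cM
        rw [← map_mul, ← map_mul, cM_comm]
      rw [← hg] at h1
      calc g⁻¹ * D.t * g * D.t = g⁻¹ * (D.t * (g * D.t * g⁻¹)) * g := by group
        _ = g⁻¹ * (g * D.t * g⁻¹ * D.t) * g := by rw [h1]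
        _ = D.t * (g⁻¹ * D.t * g) := by group
    obtain ⟨m, hm⟩ := D.mem_centT.mp hts
    have htconj : IsConj D.t (D.i m) := isConj_iff.mpr ⟨g⁻¹, by rw [inv_inv]; exact hm.symm⟩
    have hm1 : m ≠ 1 := by
      rintro rfl
      rw [map_one] at hm
      have h2 : g⁻¹ * D.t * (g⁻¹)⁻¹ = 1 := by rw [inv_inv]; exact hm.symm
      have h3 := D.t_order
      rw [conj_eq_one_iff.mp h2, orderOf_one] at h3
      omega
    have hmm : m * m = 1 := D.inj (by
      rw [map_mul, map_one, hm, show g⁻¹ * D.t * g * (g⁻¹ * D.t * g) = g⁻¹ * (D.t * D.t) * g by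
        group, ← pow_two, show (2 : ℕ) = orderOf D.t from D.t_order.symm, pow_orderOf_eq_one]
      group)
    rcases invol_classes m hmm hm1 with rfl | ⟨k, hk⟩
    · refine absurd ?_ hscM
      refine D.inj ?_
      rw [← hg]
      calc g * D.t * g⁻¹ = g * (g⁻¹ * D.t * g) * g⁻¹ := by
            rw [← hm]; rfl
        _ = D.i cM := by group; rfl
    have hkconj : IsConj D.t (D.i (k * m * k⁻¹)) :=
      htconj.trans (isConj_iff.mpr ⟨D.i k, by simp⟩)
    have hk' : k * m * k⁻¹ = hM ∨ k * m * k⁻¹ = cM * hM := by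
      rcases hk with hk | hk | hk | hk <;> rw [hk] at hkconj
      · exact absurd hkconj D.not_conj_z
      · exact absurd hkconj D.not_conj_u
      · exact Or.inl hk
      · exact Or.inr hk
    have hk'' : k * m * k⁻¹ ∈ Aset ∧
        ∀ w : Mdl, k * m * k⁻¹ * w = w * (k * m * k⁻¹) ↔ hM * w = w * hM :=
      Aset_targets _ (hk'.imp id Or.inl)
    set n : G := g * (D.i k)⁻¹ with hn
    have hnt : n * D.t * n⁻¹ = D.i s := by
      have : (D.i k)⁻¹ * D.t * D.i k = D.t := by
        show (D.i k)⁻¹ * D.i cM * D.i k = D.i cM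
        rw [← map_inv, ← map_mul, ← map_mul]
        congr 1
        rw [mul_assoc, cM_comm, inv_mul_cancel_left]
      calc n * D.t * n⁻¹ = g * ((D.i k)⁻¹ * D.t * D.i k) * g⁻¹ := by rw [hn]; group
        _ = D.i s := by rw [this, hg]
    have hnkm : n * D.i (k * m * k⁻¹) * n⁻¹ = D.t := by
      rw [hn, map_mul, map_mul, map_inv, hm]; group
    refine ⟨n, ?_, hnt⟩
    rw [hN]
    refine Subgroup.mem_set_normalizer_iff.mpr fun x => ?_
    have hfwd : ∀ y : G, (y * D.t = D.t * y ∧ y * D.i (k * m * k⁻¹) = D.i (k * m * k⁻¹) * y) ↔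
        y ∈ A := by
      intro y
      constructor
      · rintro ⟨h1, h2⟩
        obtain ⟨w, rfl⟩ := D.mem_centT.mp (Subgroup.mem_centralizer_singleton_iff.mpr h1)
        exact ⟨w, (hk''.2 w).mp (D.inj ((map_mul _ _ _).trans (h2.symm.trans (map_mul _ _ _).symm))),
          rfl⟩
      · rintro ⟨w, hw, rfl⟩
        refine ⟨?_, ?_⟩
        · show D.i w * D.i cM = D.i cM * D.i w
          rw [← map_mul, ← map_mul, cM_comm]
        · rw [← map_mul, ← map_mul, (hk''.2 w).mpr hw]
    have hbwd : ∀ y : G, (y * D.t = D.t * y ∧ y * D.i s = D.i s * y) ↔ y ∈ A := by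
      intro y
      constructor
      · rintro ⟨h1, h2⟩
        obtain ⟨w, rfl⟩ := D.mem_centT.mp (Subgroup.mem_centralizer_singleton_iff.mpr h1)
        refine ⟨w, (hscent w).mp (D.inj ?_), rfl⟩
        rw [map_mul, map_mul]; exact h2.symm
      · rintro ⟨w, hw, rfl⟩
        refine ⟨?_, ?_⟩
        · show D.i w * D.i cM = D.i cM * D.i w
          rw [← map_mul, ← map_mul, cM_comm]
        · rw [← map_mul, ← map_mul, (hscent w).mpr hw]
    have hcomm : ∀ a b : G, a * b = b * a ↔ (n * a * n⁻¹) * (n * b * n⁻¹) = (n * b * n⁻¹) * (n * a * n⁻¹) := by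
      intro a b
      constructor
      · intro h
        calc n * a * n⁻¹ * (n * b * n⁻¹) = n * (a * b) * n⁻¹ := by group
          _ = n * (b * a) * n⁻¹ := by rw [h]
          _ = _ := by group
      · intro h
        calc a * b = n⁻¹ * (n * a * n⁻¹ * (n * b * n⁻¹)) * n := by group
          _ = n⁻¹ * (n * b * n⁻¹ * (n * a * n⁻¹)) * n := by rw [h]
          _ = b * a := by group
    show x ∈ A ↔ n * x * n⁻¹ ∈ A
    rw [← hfwd x, hcomm x D.t, hcomm x (D.i (k * m * k⁻¹)), hnt, hnkm, ← hbwd (n * x * n⁻¹)]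
    exact and_comm
  -- orbit of length five
  set C := Subgroup.centralizer ({D.t} : Set G) with hC
  let F : N ⧸ C.subgroupOf N → G := Quotient.lift (fun n : N => (n : G) * D.t * (n : G)⁻¹) (by
    intro a b hab
    have h1 := (Subgroup.mem_centralizer_singleton_iff.mp
      (Subgroup.mem_subgroupOf.mp (QuotientGroup.leftRel_apply.mp hab)))
    simp only [Subgroup.coe_mul, Subgroup.coe_inv] at h1
    calc (a : G) * D.t * (a : G)⁻¹ = (a : G) * (D.t * ((a : G)⁻¹ * b)) * (b : G)⁻¹ := by group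
      _ = (a : G) * ((a : G)⁻¹ * b * D.t) * (b : G)⁻¹ := by rw [h1]
      _ = (b : G) * D.t * (b : G)⁻¹ := by group)
  have hFinj : Function.Injective F := by
    intro a b
    induction a using QuotientGroup.induction_on with
    | _ a =>
    induction b using QuotientGroup.induction_on with
    | _ b =>
    intro h
    change (a : G) * D.t * (a : G)⁻¹ = (b : G) * D.t * (b : G)⁻¹ at h
    rw [QuotientGroup.eq, Subgroup.mem_subgroupOf, hC, Subgroup.mem_centralizer_singleton_iff]
    simp only [Subgroup.coe_mul, Subgroup.coe_inv]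
    calc (a : G)⁻¹ * b * D.t = (a : G)⁻¹ * ((b : G) * D.t * (b : G)⁻¹) * b := by group
      _ = (a : G)⁻¹ * ((a : G) * D.t * (a : G)⁻¹) * b := by rw [h]
      _ = D.t * ((a : G)⁻¹ * b) := by group
  have hrange : Set.range F = ↑(Θ.image D.i) := by
    ext x
    simp only [Set.mem_range, Finset.coe_image, Set.mem_image, Finset.mem_coe]
    constructor
    · rintro ⟨q, rfl⟩
      induction q using QuotientGroup.induction_on with
      | _ n =>
      show ∃ s ∈ Θ, D.i s = (n : G) * D.t * (n : G)⁻¹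
      have hmem : (n : G) * D.t * (n : G)⁻¹ ∈ A :=
        (Subgroup.mem_set_normalizer_iff.mp n.2 D.t).mp
          ⟨cM, (cent_hM cM).mp Aset_cM, rfl⟩
      obtain ⟨w, hw, hwx⟩ := hmem
      refine ⟨w, ?_, hwx⟩
      have hconj : IsConj D.t (D.i w) := isConj_iff.mpr ⟨n, hwx.symm⟩
      rcases Aset_list w ((cent_hM w).mpr hw) with rfl | rfl | rfl | rfl | rfl | rfl | rfl | rfl
      · exfalso
        rw [map_one] at hconj
        have h3 := D.t_order
        rw [isConj_one_left.mp hconj, orderOf_one] at h3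
        omega
      · exact absurd hconj D.not_conj_z
      · exact absurd hconj D.not_conj_u
      all_goals simp [hΘ]
    · rintro ⟨s, hs, rfl⟩
      obtain ⟨n, hn, hns⟩ := hreach s hs
      exact ⟨QuotientGroup.mk ⟨n, hn⟩, hns⟩
  have h5 : Nat.card (N ⧸ C.subgroupOf N) = 5 := by
    rw [← Nat.card_range_of_injective hFinj, hrange, Nat.card_coe_set_eq, Set.ncard_coe_finset,
      Finset.card_image_of_injective _ D.inj]
    exact five
  have hdvd : 5 ∣ Nat.card N := h5 ▸ Subgroup.card_quotient_dvd_card _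
  haveI : Fact (Nat.Prime 5) := ⟨by norm_num⟩
  obtain ⟨n, hn⟩ := exists_prime_orderOf_dvd_card' (G := N) 5 hdvd
  rw [← Subgroup.orderOf_coe] at hn
  have hmove : ∀ w : Mdl, (w = zM ∨ w = cM * zM) → ∃ v : Mdl, (v = zM ∨ v = cM * zM) ∧
      (n : G) * D.i w * (n : G)⁻¹ = D.i v := by
    intro w hw
    have hwA : hM * w = w * hM := by rcases hw with rfl | rfl <;> decide
    obtain ⟨v, hv, hvx⟩ := (Subgroup.mem_set_normalizer_iff.mp n.2 (D.i w)).mp ⟨w, hwA, rfl⟩
    refine ⟨v, ?_, hvx.symm⟩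
    have hnot : ¬ IsConj D.t (D.i v) := by
      intro h
      have h2 : IsConj D.t (D.i w) := h.trans (isConj_iff.mpr ⟨(n : G), hvx.symm⟩).symm
      rcases hw with rfl | rfl
      · exact D.not_conj_z h2
      · exact D.not_conj_u h2
    have hmem : ∀ s ∈ Θ, v ≠ s := fun s hs e => hnot (e ▸ hΘconj s hs)
    rcases Aset_list v ((cent_hM v).mpr hv) with rfl | rfl | rfl | rfl | rfl | rfl | rfl | rfl
    · exfalso
      rw [map_one] at hvx
      have hw0 : D.i w = D.i 1 := by rw [map_one]; exact conj_eq_one_iff.mp hvx.symm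
      rcases hw with rfl | rfl <;> exact absurd (D.inj hw0) (by decide)
    · exact Or.inl rfl
    · exact Or.inr rfl
    all_goals exact absurd rfl (hmem _ (by simp [hΘ]))
  have hcz : ∀ x : G, x * D.z * x⁻¹ = D.z → orderOf x ≠ 5 := by
    intro x hx h
    have hxS : x ∈ Subgroup.centralizer ({D.z} : Set G) := by
      rw [Subgroup.mem_centralizer_singleton_iff]
      exact mul_inv_eq_iff_eq_mul.mp hx
    have := Subgroup.orderOf_dvd_natCard _ hxS
    rw [h, D.card_Cz] at this
    omega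
  obtain ⟨v, hv, hnv⟩ := hmove zM (Or.inl rfl)
  rcases hv with rfl | rfl
  · exact hcz n hnv hn
  · obtain ⟨v', hv', hnv'⟩ := hmove (cM * zM) (Or.inr rfl)
    rcases hv' with rfl | rfl
    · refine hcz ((n : G) ^ 2) ?_ ?_
      · rw [pow_two]
        calc (n : G) * n * D.z * ((n : G) * n)⁻¹ = n * (n * D.i zM * (n : G)⁻¹) * (n : G)⁻¹ := by
              simp only [z]; group
          _ = D.z := by rw [hnv, hnv']; rfl
      · rw [orderOf_pow' _ (by norm_num : (2 : ℕ) ≠ 0), hn]
        norm_num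
    · have h := hnv'.trans hnv.symm
      have : D.i (cM * zM) = D.i zM := mul_left_cancel (mul_right_cancel h)
      exact absurd (D.inj this) (by decide)

include hh in
theorem not_conj_ker {m : Mdl} (hchi : chiM m = 1) : ¬ IsConj D.t (D.i m) := by
  intro hconj
  have hm1 : m ≠ 1 := by
    rintro rfl
    rw [map_one] at hconj
    have h3 := D.t_order
    rw [isConj_one_left.mp hconj, orderOf_one] at h3
    omega
  have hmm : m * m = 1 := by
    obtain ⟨g, hg⟩ := isConj_iff.mp hconj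
    refine D.inj ?_
    rw [map_mul, map_one, ← hg, show g * D.t * g⁻¹ * (g * D.t * g⁻¹) = g * (D.t * D.t) * g⁻¹ by
      group, ← pow_two, show (2 : ℕ) = orderOf D.t from D.t_order.symm, pow_orderOf_eq_one]
    group
  obtain ⟨k, hk⟩ := conj_class_hM m hmm hm1 hchi
  have hconj' : IsConj D.t (D.i (k * m * k⁻¹)) := hconj.trans
    (isConj_iff.mpr ⟨D.i k, by simp⟩)
  rcases hk with hk | hk <;> rw [hk] at hconj'
  · exact D.not_conj_z hconj'
  · exact D.not_conj_cMhM hh hconj'

include hh in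
theorem exists_index_two : ∃ H : Subgroup G, H.Normal ∧ H.index = 2 ∧ D.t ∉ H := by
  haveI : Fact (Nat.Prime 2) := ⟨Nat.prime_two⟩
  set QM : Subgroup Mdl := Subgroup.centralizer ({zM} : Set Mdl) ⊓ chiM.ker with hQM
  set Q : Subgroup G := QM.map D.i with hQ
  have hQS : Q ≤ (D.S : Subgroup G) := by
    rw [hQ, D.S_eq]
    exact Subgroup.map_mono inf_le_left
  have hcardQ : Nat.card Q = 8 := by
    rw [hQ, Subgroup.card_map_of_injective D.inj, ← card_Q, ← Nat.card_eq_fintype_card]
    refine Nat.card_congr (Equiv.subtypeEquivRight fun m => ?_)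
    rw [hQM, Subgroup.mem_inf, mem_cent_M, MonoidHom.mem_ker]
  have hrel : Q.relIndex (D.S : Subgroup G) = 2 := by
    have h := (Q.subgroupOf (D.S : Subgroup G)).card_mul_index
    rw [Nat.card_congr (Subgroup.subgroupOfEquivOfLe hQS).toEquiv, hcardQ, D.card_S] at h
    show (Q.subgroupOf (D.S : Subgroup G)).index = 2
    omega
  have htS : D.t ∈ (D.S : Subgroup G) := D.mem_S.mpr ⟨cM, (cM_comm zM).symm, rfl⟩
  have htQ : D.t ∉ Q := by
    rintro ⟨m, hm, hmt⟩
    have he : m = cM := D.inj hmt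
    subst he
    have h1 : chiM cM = 1 := hm.2
    exact absurd h1 (by decide)
  rcases Cfsg.Agent.S0111.result D.S Q hQS hrel D.t D.t_order htS htQ with ⟨M, h1, h2, h3⟩ | ⟨g, hg⟩
  · exact ⟨M, h1, h2, h3⟩
  · exfalso
    obtain ⟨m, hm, hmt⟩ := hg
    exact D.not_conj_ker hh hm.2 (isConj_iff.mpr ⟨g, hmt.symm⟩)

end Emb

end CfsgLib.TwoS4
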