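import Mathlib

/-!
# Finite facts about `Z/2 × Sym(4)` for the recognition of `Sym(6)` by an involution centralizer
-/

set_option autoImplicit false

open Equiv

namespace CfsgLib.TwoS4

/-- The model centralizer. -/
abbrev Mdl : Type := Multiplicative (ZMod 2) × Perm (Fin 4)

/-- The central involution. -/
def cM : Mdl := (Multiplicative.ofAdd 1, 1)

/-- The involution generating the derived subgroup of a Sylow 2-subgroup. -/
def zM : Mdl := (1, swap 0 1 * swap 2 3)

/-- A transposition. -/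
def hM : Mdl := (1, swap 0 1)

/-- The second transposition. -/
def hM' : Mdl := (1, swap 2 3)

/-- The sign of the first factor. -/
def epsFun (a : Multiplicative (ZMod 2)) : ℤˣ := if a = 1 then 1 else -1

theorem epsFun_mul : ∀ a b, epsFun (a * b) = epsFun a * epsFun b := by decide

/-- The sign of the first factor, as a homomorphism. -/
def eps : Multiplicative (ZMod 2) →* ℤˣ := MonoidHom.mk' epsFun epsFun_mul

/-- The character whose kernel avoids both `cM` and `hM`. -/
def chiM : Mdl →* ℤˣ :=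
  MonoidHom.mk' (fun p => eps p.1 * Perm.sign p.2) fun p q => by
    simp only [Prod.fst_mul, Prod.snd_mul, map_mul]
    exact mul_mul_mul_comm _ _ _ _

/-- The embedding of a sign in the first factor. -/
def twFun (s : ℤˣ) : Multiplicative (ZMod 2) := if s = 1 then 1 else Multiplicative.ofAdd 1

theorem twFun_mul : ∀ a b, twFun (a * b) = twFun a * twFun b := by decide

/-- The automorphism exchanging the two classes of transpositions. -/
def twM : Mdl ≃* Mdl where
  toFun p := (p.1 * twFun (Perm.sign p.2), p.2)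
  invFun p := (p.1 * twFun (Perm.sign p.2), p.2)
  left_inv p := by
    refine Prod.ext ?_ rfl
    show p.1 * twFun (Perm.sign p.2) * twFun (Perm.sign p.2) = p.1
    rw [mul_assoc, ← twFun_mul, Int.units_mul_self]
    exact mul_one p.1
  right_inv p := by
    refine Prod.ext ?_ rfl
    show p.1 * twFun (Perm.sign p.2) * twFun (Perm.sign p.2) = p.1
    rw [mul_assoc, ← twFun_mul, Int.units_mul_self]
    exact mul_one p.1
  map_mul' p q := by
    refine Prod.ext ?_ rfl
    show p.1 * q.1 * twFun (Perm.sign (p.2 * q.2)) =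
      p.1 * twFun (Perm.sign p.2) * (q.1 * twFun (Perm.sign q.2))
    rw [map_mul, twFun_mul]
    exact mul_mul_mul_comm _ _ _ _

theorem twM_facts : twM cM = cM ∧ twM zM = zM ∧ twM hM = cM * hM := by decide

theorem center_M : ∀ m : Mdl, (∀ x, m * x = x * m) → m = 1 ∨ m = cM := by decide +kernel

theorem card_M : Fintype.card Mdl = 48 := by decide

theorem card_centralizer_z : Fintype.card {m : Mdl // zM * m = m * zM} = 16 := by decide +kernel

theorem commutator_z : ∀ a b : Mdl, zM * a = a * zM → zM * b = b * zM →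
    a * b * a⁻¹ * b⁻¹ = 1 ∨ a * b * a⁻¹ * b⁻¹ = zM := by decide +kernel

theorem exists_commutator_z : ∃ a b : Mdl, zM * a = a * zM ∧ zM * b = b * zM ∧
    a * b * a⁻¹ * b⁻¹ = zM := by
  exact ⟨(1, swap 0 2 * swap 1 3), (1, swap 0 1), by decide, by decide, by decide⟩

theorem invol_classes : ∀ m : Mdl, m * m = 1 → m ≠ 1 → m = cM ∨ ∃ g : Mdl,
    g * m * g⁻¹ = zM ∨ g * m * g⁻¹ = cM * zM ∨ g * m * g⁻¹ = hM ∨ g * m * g⁻¹ = cM * hM := by
  decide +kernel

theorem chi_values : chiM cM = -1 ∧ chiM zM = 1 ∧ chiM hM = -1 ∧ chiM (cM * hM) = 1 := by decide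

/-- The elementary abelian subgroup `⟨cM, hM, hM'⟩`. -/
def Aset : Finset Mdl := Finset.univ.filter fun m => hM * m = m * hM

theorem Aset_list : ∀ m ∈ Aset,
    m = 1 ∨ m = zM ∨ m = cM * zM ∨ m = cM ∨ m = hM ∨ m = cM * hM ∨ m = hM' ∨ m = cM * hM' := by
  decide +kernel

theorem Aset_targets : ∀ s : Mdl, (s = hM ∨ s = cM * hM ∨ s = hM' ∨ s = cM * hM') →
    s ∈ Aset ∧ ∀ m : Mdl, s * m = m * s ↔ hM * m = m * hM := by
  rintro s (rfl | rfl | rfl | rfl) <;> decide +kernel

theorem five : ({cM, hM, cM * hM, hM', cM * hM'} : Finset Mdl).card = 5 := by decide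

theorem hM'_conj : ∃ g : Mdl, g * hM * g⁻¹ = hM' :=
  ⟨(1, swap 0 2 * swap 1 3), by decide⟩

theorem card_Q : Fintype.card {m : Mdl // zM * m = m * zM ∧ chiM m = 1} = 8 := by decide +kernel

theorem card_ker : Fintype.card {m : Mdl // chiM m = 1} = 24 := by decide +kernel

/-- The embedding of the dihedral group of order eight onto the centralizer of `zM` in `ker chiM`. -/
def dihFun : DihedralGroup 4 → Mdl
  | DihedralGroup.r k => (cM * (1, swap 0 3 * swap 1 3 * swap 1 2)) ^ k.val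
  | DihedralGroup.sr k => (cM * hM) * (cM * (1, swap 0 3 * swap 1 3 * swap 1 2)) ^ k.val

theorem dihFun_mul : ∀ a b, dihFun (a * b) = dihFun a * dihFun b := by decide +kernel

theorem dihFun_inj : ∀ a b, dihFun a = dihFun b → a = b := by decide +kernel

theorem dihFun_range : ∀ m : Mdl, (zM * m = m * zM ∧ chiM m = 1) ↔ ∃ d, dihFun d = m := by
  decide +kernel

/-- The dihedral subgroup. -/
def dih : DihedralGroup 4 →* Mdl := MonoidHom.mk' dihFun dihFun_mul

/-- A three-cycle. -/
def xM : Mdl := (1, swap 0 1 * swap 1 2)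

theorem xM_facts : chiM xM = 1 ∧ xM ≠ 1 ∧ xM ^ 3 = 1 ∧ cM * xM = xM * cM := by decide

/-- An element not commuting with `zM`. -/
def wM : Mdl := (1, swap 0 2)

theorem wM_facts : zM * wM ≠ wM * zM ∧ ∃ g : Mdl, g * hM * g⁻¹ = wM :=
  ⟨by decide, (1, swap 1 2), by decide⟩

/-- The commutator of `g` with `m` is a double transposition. -/
def goodStep (g m : Mdl) : Bool :=
  decide ((g * m * g⁻¹ * m⁻¹).1 = 1) &&
    (decide ((g * m * g⁻¹ * m⁻¹).2 ≠ 1) &&
      (decide ((g * m * g⁻¹ * m⁻¹).2 * (g * m * g⁻¹ * m⁻¹).2 = 1) &&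
        decide (Perm.sign (g * m * g⁻¹ * m⁻¹).2 = 1)))

theorem exists_goodStep : ∀ m : Mdl, chiM m = 1 → m ≠ 1 →
    (∃ k : Mdl, k * m * k⁻¹ = zM) ∨ ∃ g : Mdl, goodStep g m = true := by decide +kernel

theorem double_conj : ∀ d : Mdl, d.1 = 1 → d.2 ≠ 1 → d.2 * d.2 = 1 → Perm.sign d.2 = 1 →
    ∃ k : Mdl, k * d * k⁻¹ = zM := by decide +kernel

theorem normal_step (m : Mdl) (hm : chiM m = 1) (hm1 : m ≠ 1) : ∃ g k : Mdl,
    k * m * k⁻¹ = zM ∨ k * (g * m * g⁻¹ * m⁻¹) * k⁻¹ = zM := by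
  rcases exists_goodStep m hm hm1 with ⟨k, hk⟩ | ⟨g, hg⟩
  · exact ⟨1, k, Or.inl hk⟩
  · simp only [goodStep, Bool.and_eq_true, decide_eq_true_eq] at hg
    obtain ⟨k, hk⟩ := double_conj _ hg.1 hg.2.1 hg.2.2.1 hg.2.2.2
    exact ⟨g, k, Or.inr hk⟩

end CfsgLib.TwoS4
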