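import Mathlib
import Cfsg.Prelude.Def_TwoFusion
import Cfsg.Agent.S1188
import Cfsg.Agent.S0111
import Cfsg.Agent.Lib.Invol.Isolated
import Cfsg.Agent.Lib.Solvable.Core
import Cfsg.Agent.Lib.PermGen.SwapClosure
import Cfsg.Agent.Lib.TwoS4.Model

/-!
# Fusion of involutions when an involution centralizer is `Z/2 × Sym(4)`
-/

set_option autoImplicit false

open Equiv
open scoped commutatorElement

namespace CfsgLib.TwoS4

variable {G : Type*} [Group G]

/-- A `2`-central involution with centralizer `Z/2 × Sym(4)`, together with a Sylow `2`-subgroup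
inside the centralizer which equals the centralizer of its derived subgroup. -/
structure Emb (G : Type*) [Group G] where
  /-- The embedding of the model centralizer. -/
  i : Mdl →* G
  inj : Function.Injective i
  range_eq : i.range = Subgroup.centralizer ({i cM} : Set G)
  /-- The Sylow subgroup. -/
  S : Sylow 2 G
  S_eq : (S : Subgroup G) = (Subgroup.centralizer ({zM} : Set Mdl)).map i
  hCS : Subgroup.centralizer ((⁅(S : Subgroup G), (S : Subgroup G)⁆ : Subgroup G) : Set G) =
    (S : Subgroup G)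

theorem mem_cent_M (a m : Mdl) : m ∈ Subgroup.centralizer ({a} : Set Mdl) ↔ a * m = m * a := by
  rw [Subgroup.mem_centralizer_singleton_iff]
  exact eq_comm

theorem card_cent_conj (g x : G) :
    Nat.card (Subgroup.centralizer ({g * x * g⁻¹} : Set G)) =
      Nat.card (Subgroup.centralizer ({x} : Set G)) := by
  have h : (Subgroup.centralizer ({x} : Set G)).map (MulAut.conj g).toMonoidHom =
      Subgroup.centralizer ({g * x * g⁻¹} : Set G) := by
    ext y
    rw [Subgroup.mem_map_equiv, Subgroup.mem_centralizer_singleton_iff,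
      Subgroup.mem_centralizer_singleton_iff, MulAut.conj_symm_apply]
    constructor
    · intro h
      calc y * (g * x * g⁻¹) = g * ((g⁻¹ * y * g) * x) * g⁻¹ := by group
        _ = g * (x * (g⁻¹ * y * g)) * g⁻¹ := by rw [h]
        _ = g * x * g⁻¹ * y := by group
    · intro h
      calc g⁻¹ * y * g * x = g⁻¹ * (y * (g * x * g⁻¹)) * g := by group
        _ = g⁻¹ * (g * x * g⁻¹ * y) * g := by rw [h]
        _ = x * (g⁻¹ * y * g) := by group
  rw [← h, Subgroup.card_map_of_injective (MulAut.conj g).injective]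

theorem zM_sq : zM * zM = 1 := by decide

theorem zM_conj_prod : ∃ g₁ g₂ : Mdl, g₁ * zM * g₁⁻¹ * (g₂ * zM * g₂⁻¹) = zM := by decide +kernel

theorem cM_comm : ∀ x : Mdl, cM * x = x * cM := by decide +kernel

namespace Emb

variable (D : Emb G)

/-- The central involution. -/
def t : G := D.i cM

/-- The involution of the derived subgroup of `S`. -/
def z : G := D.i zM

theorem mem_centT {x : G} : x ∈ Subgroup.centralizer ({D.t} : Set G) ↔ ∃ m, D.i m = x := by
  rw [show D.t = D.i cM from rfl, ← D.range_eq, MonoidHom.mem_range]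

theorem mem_S {x : G} : x ∈ (D.S : Subgroup G) ↔ ∃ m, zM * m = m * zM ∧ D.i m = x := by
  rw [D.S_eq, Subgroup.mem_map]
  simp only [mem_cent_M]

theorem orderOf_invol {m : Mdl} (h1 : m * m = 1) (h2 : m ≠ 1) : orderOf (D.i m) = 2 := by
  rw [orderOf_injective D.i D.inj]
  exact orderOf_eq_prime (by rw [pow_two, h1]) h2

theorem t_order : orderOf D.t = 2 := D.orderOf_invol (by decide) (by decide)

theorem card_S : Nat.card (D.S : Subgroup G) = 16 := by
  rw [D.S_eq, Subgroup.card_map_of_injective D.inj, ← card_centralizer_z, ← Nat.card_eq_fintype_card]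
  exact Nat.card_congr (Equiv.subtypeEquivRight fun m => mem_cent_M zM m)

theorem card_C : Nat.card (Subgroup.centralizer ({D.t} : Set G)) = 48 := by
  rw [show D.t = D.i cM from rfl, ← D.range_eq,
    ← Nat.card_congr (MonoidHom.ofInjective D.inj).toEquiv, Nat.card_eq_fintype_card, card_M]

theorem card_CC [Finite G] (m : Mdl) (hm : D.i m ∈ Subgroup.center G) :
    m = 1 ∨ m = cM := by
  refine center_M m fun x => D.inj ?_
  rw [map_mul, map_mul]
  exact ((Subgroup.mem_center_iff.mp hm) (D.i x)).symm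

theorem comm_S {x y : G} (hx : x ∈ (D.S : Subgroup G)) (hy : y ∈ (D.S : Subgroup G)) :
    x * y * x⁻¹ * y⁻¹ = 1 ∨ x * y * x⁻¹ * y⁻¹ = D.z := by
  obtain ⟨a, ha, rfl⟩ := D.mem_S.mp hx
  obtain ⟨b, hb, rfl⟩ := D.mem_S.mp hy
  rcases commutator_z a b ha hb with h | h
  · left; rw [← map_inv, ← map_inv, ← map_mul, ← map_mul, ← map_mul, h, map_one]
  · right; rw [← map_inv, ← map_inv, ← map_mul, ← map_mul, ← map_mul, h]; rfl

theorem C_z : Subgroup.centralizer ({D.z} : Set G) = (D.S : Subgroup G) := by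
  refine le_antisymm ?_ fun x hx => ?_
  · conv_rhs => rw [← D.hCS]
    intro x hx
    have hle : ⁅(D.S : Subgroup G), (D.S : Subgroup G)⁆ ≤ Subgroup.centralizer ({x} : Set G) := by
      rw [Subgroup.commutator_le]
      intro a ha b hb
      rw [Subgroup.mem_centralizer_singleton_iff, commutatorElement_def]
      rcases D.comm_S ha hb with h | h <;> rw [h]
      · rw [one_mul, mul_one]
      · exact (Subgroup.mem_centralizer_singleton_iff.mp hx).symm
    refine Subgroup.mem_centralizer_iff.mpr fun y hy => ?_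
    exact Subgroup.mem_centralizer_singleton_iff.mp (hle hy)
  · obtain ⟨m, hm, rfl⟩ := D.mem_S.mp hx
    rw [Subgroup.mem_centralizer_singleton_iff, show D.z = D.i zM from rfl, ← map_mul, ← map_mul,
      hm]

theorem card_Cz : Nat.card (Subgroup.centralizer ({D.z} : Set G)) = 16 := by
  rw [D.C_z, D.card_S]

theorem normalizer_le {n : G} (hn : n ∈ Subgroup.normalizer ((D.S : Subgroup G) : Set G)) :
    n ∈ (D.S : Subgroup G) := by
  rw [← D.C_z, Subgroup.mem_centralizer_singleton_iff]
  obtain ⟨a, b, ha, hb, hab⟩ := exists_commutator_z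
  have hA : n * D.i a * n⁻¹ ∈ (D.S : Subgroup G) :=
    (Subgroup.mem_normalizer_iff.mp hn _).mp (D.mem_S.mpr ⟨a, ha, rfl⟩)
  have hB : n * D.i b * n⁻¹ ∈ (D.S : Subgroup G) :=
    (Subgroup.mem_normalizer_iff.mp hn _).mp (D.mem_S.mpr ⟨b, hb, rfl⟩)
  have hz : D.z = D.i a * D.i b * (D.i a)⁻¹ * (D.i b)⁻¹ := by
    rw [← map_inv, ← map_inv, ← map_mul, ← map_mul, ← map_mul, hab]; rfl
  have he : n * D.i a * n⁻¹ * (n * D.i b * n⁻¹) * (n * D.i a * n⁻¹)⁻¹ * (n * D.i b * n⁻¹)⁻¹ =
      n * D.z * n⁻¹ := by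
    rw [hz]; group
  have h1 : n * D.z * n⁻¹ ≠ 1 := by
    intro h
    have h2 : D.z = 1 := by simpa using conj_eq_one_iff.mp h
    exact absurd (D.inj (h2.trans (map_one D.i).symm)) (by decide)
  rcases D.comm_S hA hB with h | h <;> rw [he] at h
  · exact absurd h h1
  · calc n * D.z = n * D.z * n⁻¹ * n := by group
      _ = D.z * n := by rw [h]

theorem not_conj_z : ¬ IsConj D.t D.z := by
  intro h
  obtain ⟨g, hg⟩ := isConj_iff.mp h
  have h1 := card_cent_conj g D.t
  rw [hg, D.card_Cz, D.card_C] at h1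
  omega

/-- The product of the two central involutions. -/
def u : G := D.i (cM * zM)

theorem C_u_ge : (D.S : Subgroup G) ≤ Subgroup.centralizer ({D.u} : Set G) := by
  intro x hx
  obtain ⟨m, hm, rfl⟩ := D.mem_S.mp hx
  rw [Subgroup.mem_centralizer_singleton_iff, show D.u = D.i (cM * zM) from rfl, ← map_mul,
    ← map_mul]
  congr 1
  have hc : ∀ x : Mdl, cM * x = x * cM := by decide +kernel
  rw [← mul_assoc, ← hc m, mul_assoc, ← hm, ← mul_assoc]

theorem t_mem_cS : D.t ∈ Subgroup.centralizer ((D.S : Subgroup G) : Set G) := by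
  refine Subgroup.mem_centralizer_iff.mpr fun x hx => ?_
  obtain ⟨m, -, rfl⟩ := D.mem_S.mp hx
  have hc : ∀ x : Mdl, x * cM = cM * x := by decide +kernel
  show D.i m * D.i cM = D.i cM * D.i m
  rw [← map_mul, ← map_mul, hc]

theorem not_conj_u [Finite G] : ¬ IsConj D.t D.u := by
  haveI : Fact (Nat.Prime 2) := ⟨Nat.prime_two⟩
  intro h
  obtain ⟨g, hg⟩ := isConj_iff.mp h
  have hy : (g⁻¹)⁻¹ * D.t * g⁻¹ ∈ Subgroup.centralizer ((D.S : Subgroup G) : Set G) := by
    rw [inv_inv, hg]
    refine Subgroup.mem_centralizer_iff.mpr fun x hx => ?_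
    exact Subgroup.mem_centralizer_singleton_iff.mp (D.C_u_ge hx)
  obtain ⟨n, hn, e⟩ := D.S.conj_eq_normalizer_conj_of_mem_centralizer D.t g⁻¹ D.t_mem_cS hy
  rw [inv_inv, hg] at e
  have h2 := Subgroup.mem_centralizer_iff.mp D.t_mem_cS n (D.normalizer_le hn)
  have h3 : D.u = D.t := by
    rw [e, mul_assoc, ← h2, inv_mul_cancel_left]
  exact absurd (D.inj h3) (by decide)

/-- Replace the embedding by its twist. -/
def twist : Emb G where
  i := D.i.comp twM.toMonoidHom
  inj := D.inj.comp twM.injective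
  range_eq := by
    show (D.i.comp twM.toMonoidHom).range = Subgroup.centralizer ({D.i (twM cM)} : Set G)
    rw [twM_facts.1, ← D.range_eq, MonoidHom.range_eq_map, ← Subgroup.map_map,
      Subgroup.map_top_of_surjective _ twM.surjective, MonoidHom.range_eq_map]
  S := D.S
  S_eq := by
    rw [D.S_eq, ← Subgroup.map_map]
    congr 1
    ext m
    rw [Subgroup.mem_map_equiv, mem_cent_M, mem_cent_M]
    constructor
    · intro h
      refine twM.injective ?_
      rw [map_mul, map_mul, twM_facts.2.1, twM.apply_symm_apply]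
      exact h
    · intro h
      have := congrArg twM h
      rwa [map_mul, map_mul, twM_facts.2.1, twM.apply_symm_apply] at this
  hCS := D.hCS

theorem twist_t : D.twist.t = D.t := by
  show D.i (twM cM) = D.i cM
  rw [twM_facts.1]

include D in
theorem oddCore_bot [Finite G] : Cfsg.oddCore G = ⊥ := by
  haveI : Fact (Nat.Prime 2) := ⟨Nat.prime_two⟩
  set O := Cfsg.oddCore G with hOdef
  haveI hN : O.Normal := CfsgLib.Solvable.pPrimeCore_normal 2 G
  have hcop : (Nat.card O).Coprime 2 := CfsgLib.Solvable.pPrimeCore_card_coprime 2 G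
  have hodd : Odd (Nat.card O) := (Nat.coprime_two_right).mp hcop
  -- conjugates of `z` invert the core
  have hfix : ∀ o ∈ O, Commute D.z o → o = 1 := by
    intro o ho hc
    have hS : o ∈ (D.S : Subgroup G) := by
      rw [← D.C_z, Subgroup.mem_centralizer_singleton_iff]; exact hc.eq.symm
    have hd : orderOf o ∣ 16 := D.card_S ▸ Subgroup.orderOf_dvd_natCard _ hS
    have hd2 : orderOf o ∣ Nat.card O := Subgroup.orderOf_dvd_natCard _ ho
    have h3 : Nat.Coprime 16 (Nat.card O) := by
      have := Nat.Coprime.pow_left 4 hcop.symm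
      simpa using this
    have : orderOf o ∣ 1 := h3 ▸ Nat.dvd_gcd hd hd2
    exact orderOf_eq_one_iff.mp (Nat.dvd_one.mp this)
  have hz2 : D.z * D.z = 1 := by
    rw [show D.z = D.i zM from rfl, ← map_mul, zM_sq, map_one]
  let φ : O →* O := (MulAut.conjNormal (H := O) D.z).toMonoidHom
  have hφfp : MonoidHom.FixedPointFree φ := by
    intro o ho
    refine Subtype.ext (hfix o o.2 ?_)
    have h1 := congrArg Subtype.val ho
    simp only [φ, MulEquiv.coe_toMonoidHom, MulAut.conjNormal_apply] at h1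
    show D.z * (o : G) = o * D.z
    calc D.z * (o : G) = D.z * o * D.z⁻¹ * D.z := by group
      _ = o * D.z := by rw [h1]
  have hinvol : Function.Involutive φ := by
    intro o
    refine Subtype.ext ?_
    simp only [φ, MulEquiv.coe_toMonoidHom, MulAut.conjNormal_apply]
    have hi : D.z⁻¹ = D.z := inv_eq_of_mul_eq_one_right hz2
    rw [hi]
    calc D.z * (D.z * (o : G) * D.z) * D.z = (D.z * D.z) * o * (D.z * D.z) := by group
      _ = o := by rw [hz2, one_mul, mul_one]
  have hinv : ∀ o ∈ O, D.z * o * D.z⁻¹ = o⁻¹ := by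
    intro o ho
    have := congrFun (hφfp.coe_eq_inv_of_involutive hinvol) ⟨o, ho⟩
    have h := congrArg Subtype.val this
    simpa [φ, MulAut.conjNormal_apply] using h
  have hinvc : ∀ g : Mdl, ∀ o ∈ O, D.i (g * zM * g⁻¹) * o * (D.i (g * zM * g⁻¹))⁻¹ = o⁻¹ := by
    intro g o ho
    have h1 := hinv ((D.i g)⁻¹ * o * D.i g) (by simpa using hN.conj_mem o ho (D.i g)⁻¹)
    calc D.i (g * zM * g⁻¹) * o * (D.i (g * zM * g⁻¹))⁻¹
        = D.i g * (D.z * ((D.i g)⁻¹ * o * D.i g) * D.z⁻¹) * (D.i g)⁻¹ := by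
          simp only [map_mul, map_inv, show D.z = D.i zM from rfl]; group
      _ = o⁻¹ := by rw [h1]; group
  obtain ⟨g, g', hg⟩ := zM_conj_prod
  rw [eq_bot_iff]
  intro o ho
  have h1 := hinvc g' o ho
  have h2 := hinvc g o⁻¹ (inv_mem ho)
  have h3 := hinv o ho
  have h4 : D.z * o * D.z⁻¹ = o := by
    rw [show D.z = D.i (g * zM * g⁻¹) * D.i (g' * zM * g'⁻¹) by rw [← map_mul, hg]; rfl]
    calc D.i (g * zM * g⁻¹) * D.i (g' * zM * g'⁻¹) * o *
          (D.i (g * zM * g⁻¹) * D.i (g' * zM * g'⁻¹))⁻¹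
        = D.i (g * zM * g⁻¹) * (D.i (g' * zM * g'⁻¹) * o * (D.i (g' * zM * g'⁻¹))⁻¹) *
          (D.i (g * zM * g⁻¹))⁻¹ := by group
      _ = o := by rw [h1, h2, inv_inv]
  rw [Subgroup.mem_bot]
  refine hfix o ho ?_
  show D.z * o = o * D.z
  calc D.z * o = D.z * o * D.z⁻¹ * D.z := by group
    _ = o * D.z := by rw [h4]

/-- Either the central involution is central, or after twisting it is conjugate to a
transposition. -/
theorem center_or_conj [Finite G] : Subgroup.centralizer ({D.t} : Set G) = ⊤ ∨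
    ∃ D' : Emb G, D'.t = D.t ∧ IsConj D'.t (D'.i hM) := by
  haveI : Fact (Nat.Prime 2) := ⟨Nat.prime_two⟩
  by_cases hiso : ∀ g : G, g * D.t * g⁻¹ ∈ (D.S : Subgroup G) → g * D.t * g⁻¹ = D.t
  · left
    have hz := CfsgLib.Invol.isIsolatedInvolution_of_sylow D.S D.t_order hiso
    have hsol : Group.IsSolvable ↥(Subgroup.centralizer ({D.t} : Set G)) := by
      rw [show D.t = D.i cM from rfl, ← D.range_eq]
      haveI : Group.IsSolvable (Perm (Fin 4)) := CfsgLib.PermGen.perm_four_isSolvable
      exact Group.isSolvable_of_surjective (f := D.i.rangeRestrict)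
        D.i.rangeRestrict_surjective
    rw [Subgroup.eq_top_iff']
    intro g
    have h := Cfsg.Agent.S1188.result D.t hz hsol g
    rw [D.oddCore_bot, Subgroup.mem_bot] at h
    rw [Subgroup.mem_centralizer_singleton_iff]
    exact (mul_inv_eq_iff_eq_mul.mp (mul_inv_eq_one.mp h)).symm
  · right
    push Not at hiso
    obtain ⟨g, hgS, hgne⟩ := hiso
    obtain ⟨m, hm, hmg⟩ := D.mem_S.mp hgS
    have hm1 : m ≠ 1 := by
      rintro rfl
      rw [map_one] at hmg
      have h2 : D.t = 1 := by simpa using conj_eq_one_iff.mp hmg.symm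
      exact absurd h2 (fun h => by have := D.t_order; rw [h, orderOf_one] at this; omega)
    have hmm : m * m = 1 := D.inj (by
      rw [map_mul, map_one, hmg, show (g * D.t * g⁻¹) * (g * D.t * g⁻¹) = g * (D.t * D.t) * g⁻¹
        by group, ← pow_two, show (2 : ℕ) = orderOf D.t from D.t_order.symm, pow_orderOf_eq_one]
      group)
    have hconj : IsConj D.t (D.i m) := isConj_iff.mpr ⟨g, hmg.symm⟩
    rcases invol_classes m hmm hm1 with rfl | ⟨k, hk⟩
    · exact absurd hmg.symm hgne
    · have hconj' : IsConj D.t (D.i (k * m * k⁻¹)) := hconj.trans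
        (isConj_iff.mpr ⟨D.i k, by simp⟩)
      rcases hk with hk | hk | hk | hk <;> rw [hk] at hconj'
      · exact absurd hconj' D.not_conj_z
      · exact absurd hconj' D.not_conj_u
      · exact ⟨D, rfl, hconj'⟩
      · refine ⟨D.twist, D.twist_t, ?_⟩
        rw [D.twist_t]
        show IsConj D.t (D.i (twM hM))
        rw [twM_facts.2.2]
        exact hconj'

end Emb

end CfsgLib.TwoS4
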